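import Groth.Agent.K0PID46.Main
import Mathlib.Algebra.Module.LocalizedModule.Exact
import Mathlib.Algebra.Polynomial.FieldDivision
import Mathlib.Algebra.Module.Torsion.Basic
import Mathlib.Algebra.MvPolynomial.CommRing
import Mathlib.RingTheory.Length
import Mathlib.RingTheory.Polynomial.Basic
import Mathlib.RingTheory.Localization.Finiteness

/-!
`K₀` of finitely generated modules over the node `k[x,y]/(xy)`.
-/

set_option autoImplicit false
set_option linter.style.haveILetI false
universe u

namespace Groth.Agent.K0Node31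

open K0PID46 CategoryTheory

section General

variable {A : Type u} [CommRing A]

theorem cls_pow (B : Type u) [AddCommGroup B] [Module A B] [Module.Finite A B] (n : ℕ) :
    cls A (Fin n → B) = (n : ℤ) • cls A B := by
  induction n with
  | zero => rw [cls_subsingleton]; simp
  | succ n ih =>
    have h := cls_ses A (LinearMap.single A (fun _ : Fin (n + 1) => B) 0)
      (LinearMap.funLeft A B (Fin.succ : Fin n → Fin (n + 1)))
      (fun a b hab => by simpa using congrFun hab 0)
      (fun x => ⟨fun hx => ⟨x 0, funext fun i => by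
        cases i using Fin.cases with
        | zero => simp
        | succ j =>
          have := congrFun hx j
          simp only [LinearMap.funLeft_apply, Pi.zero_apply] at this
          simp [this, Fin.succ_ne_zero]⟩,
        fun ⟨a, ha⟩ => funext fun j => by
          subst ha
          simp [LinearMap.funLeft_apply, Fin.succ_ne_zero]⟩)
      (fun x => ⟨Fin.cons 0 x, funext fun j => by simp [LinearMap.funLeft_apply]⟩)
    rw [h, ih, Nat.cast_succ, add_smul, one_smul, add_comm]

/-- A module over a principal ideal domain quotient of `A` has class a multiple of the quotient. -/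
theorem cls_mem_of_torsion [IsNoetherianRing A] (P : Ideal A) [IsDomain (A ⧸ P)]
    [IsPrincipalIdealRing (A ⧸ P)] (M : Type u) [AddCommGroup M] [Module A M] [Module.Finite A M]
    (hM : Module.IsTorsionBySet A M P) :
    cls A M ∈ AddSubgroup.zmultiples (cls A (A ⧸ P)) := by
  letI : Module (A ⧸ P) M := hM.module
  haveI : IsScalarTower A (A ⧸ P) M :=
    ⟨fun a b m => by
      obtain ⟨b, rfl⟩ := Ideal.Quotient.mk_surjective b
      change (Ideal.Quotient.mk P (a * b)) • m = a • (Ideal.Quotient.mk P b • m)
      rw [map_mul, mul_smul, Module.IsTorsionBySet.mk_smul hM a]⟩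
  haveI : Module.Finite (A ⧸ P) M := Module.Finite.of_restrictScalars_finite A (A ⧸ P) M
  obtain ⟨n, f, hf⟩ := Module.Finite.exists_fin' (A ⧸ P) M
  obtain ⟨m, ⟨b⟩⟩ : ∃ m : ℕ, Nonempty (Module.Basis (Fin m) (A ⧸ P) (LinearMap.ker f)) :=
    ⟨_, ⟨(Submodule.basisOfPid (Pi.basisFun (A ⧸ P) (Fin n)) (LinearMap.ker f)).2⟩⟩
  haveI : Module.Finite A (LinearMap.ker f) :=
    Module.Finite.equiv (b.equivFun.restrictScalars A).symm
  have h := cls_ses A ((LinearMap.ker f).subtype.restrictScalars A) (f.restrictScalars A)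
    (Submodule.injective_subtype _)
    (fun x => ⟨fun hx => ⟨⟨x, hx⟩, rfl⟩, fun ⟨y, hy⟩ => hy ▸ y.2⟩) hf
  rw [cls_equiv A (b.equivFun.restrictScalars A).symm, cls_pow, cls_pow] at h
  exact ⟨(n : ℤ) - m, by
    show ((n : ℤ) - m) • cls A (A ⧸ P) = cls A M
    rw [sub_smul, h, add_sub_cancel_left]⟩

theorem cls_eq_mk {M : Type u} [AddCommGroup M] [Module A M] (h : Module.Finite A M) :
    cls A M = QuotientAddGroup.mk (FreeAbelianGroup.of ⟨ModuleCat.of A M, h⟩) :=
  KDer46.clSub_eq (P := Fin' A) h

/-- The length at a prime. -/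
noncomputable def len (P : Ideal A) [P.IsPrime] (M : Type u) [AddCommGroup M] [Module A M] : ℤ :=
  ((Module.length (Localization P.primeCompl) (LocalizedModule P.primeCompl M)).toNat : ℤ)

theorem length_ne_top (P : Ideal A) [P.IsPrime] (hP : IsField (Localization P.primeCompl))
    (M : Type u) [AddCommGroup M] [Module A M] [Module.Finite A M] :
    Module.length (Localization P.primeCompl) (LocalizedModule P.primeCompl M) ≠ ⊤ := by
  letI := hP.toField
  haveI : Module.Finite (Localization P.primeCompl) (LocalizedModule P.primeCompl M) :=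
    Module.Finite.of_isLocalizedModule P.primeCompl (LocalizedModule.mkLinearMap P.primeCompl M)
  rw [Module.length_ne_top_iff, isFiniteLength_iff_isNoetherian_isArtinian]
  exact ⟨inferInstance, inferInstance⟩

/-- The additive function given by the length at a prime with field localization. -/
noncomputable def lenHom (P : Ideal A) [P.IsPrime] (hP : IsField (Localization P.primeCompl)) :
    KZero.K0sub (Fin' A) →+ ℤ :=
  QuotientAddGroup.lift _ (FreeAbelianGroup.lift fun M => len P M.1) (by
    rw [KZero.relSub, AddSubgroup.closure_le]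
    rintro _ ⟨S, h₁, h₂, h₃, hS, rfl⟩
    rw [SetLike.mem_coe, AddMonoidHom.mem_ker, map_sub, map_sub, FreeAbelianGroup.lift_apply_of,
      FreeAbelianGroup.lift_apply_of, FreeAbelianGroup.lift_apply_of]
    haveI : Module.Finite A S.X₁ := h₁
    haveI : Module.Finite A S.X₃ := h₃
    have hex := (ShortComplex.ShortExact.moduleCat_exact_iff_function_exact S).1 hS.exact
    have hinj := (ModuleCat.mono_iff_injective S.f).1 hS.mono_f
    have hsurj := (ModuleCat.epi_iff_surjective S.g).1 hS.epi_g
    have e := Module.length_eq_add_of_exact (LocalizedModule.map P.primeCompl S.f.hom)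
      (LocalizedModule.map P.primeCompl S.g.hom) (LocalizedModule.map_injective _ _ hinj)
      (LocalizedModule.map_surjective _ _ hsurj) (LocalizedModule.map_exact P.primeCompl _ _ hex)
    have h1 := length_ne_top P hP S.X₁
    have h3 := length_ne_top P hP S.X₃
    dsimp only [len]
    rw [e, ENat.toNat_add h1 h3]
    push_cast
    ring)

theorem lenHom_cls (P : Ideal A) [P.IsPrime] (hP : IsField (Localization P.primeCompl))
    (M : Type u) [AddCommGroup M] [Module A M] (h : Module.Finite A M) :
    lenHom P hP (cls A M) = len P M := by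
  rw [cls_eq_mk h]
  exact FreeAbelianGroup.lift_apply_of _ _

theorem len_self_ne_zero (P : Ideal A) [P.IsPrime] (hP : IsField (Localization P.primeCompl)) :
    len P (A ⧸ P) ≠ 0 := by
  intro h
  have h0 : (Module.length (Localization P.primeCompl) (LocalizedModule P.primeCompl (A ⧸ P))).toNat = 0 := by
    unfold len at h
    exact_mod_cast h
  rw [ENat.toNat_eq_zero, or_iff_left (length_ne_top P hP _), Module.length_eq_zero_iff] at h0
  obtain ⟨r, hr, hr0⟩ := (IsLocalizedModule.subsingleton_iff P.primeCompl
    (LocalizedModule.mkLinearMap P.primeCompl (A ⧸ P))).1 h0 (Ideal.Quotient.mk P 1)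
  refine hr ?_
  rw [Algebra.smul_def, map_one, mul_one] at hr0
  exact Ideal.Quotient.eq_zero_iff_mem.1 hr0

theorem len_eq_zero (P : Ideal A) [P.IsPrime] {Q : Ideal A} {q : A} (hq : q ∈ Q) (hqP : q ∉ P) :
    len P (A ⧸ Q) = 0 := by
  have : Subsingleton (LocalizedModule P.primeCompl (A ⧸ Q)) :=
    (IsLocalizedModule.subsingleton_iff P.primeCompl
      (LocalizedModule.mkLinearMap P.primeCompl (A ⧸ Q))).2 fun m => ⟨q, hqP, by
        rw [Algebra.smul_def, Ideal.Quotient.algebraMap_eq, Ideal.Quotient.eq_zero_iff_mem.2 hq, zero_mul]⟩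
  simp [len]

/-- Localization at a prime whose elements are killed by an element outside is a field. -/
theorem isField_localization (P : Ideal A) [P.IsPrime] (a b : A) (hP : P = Ideal.span {a})
    (hb : b ∉ P) (hab : a * b = 0) : IsField (Localization P.primeCompl) := by
  rw [IsLocalRing.isField_iff_maximalIdeal_eq]
  rw [← Localization.AtPrime.map_eq_maximalIdeal (I := P)]
  rw [Ideal.map_eq_bot_iff_le_ker]
  refine hP.le.trans ?_
  rw [Ideal.span_le, Set.singleton_subset_iff, SetLike.mem_coe, RingHom.mem_ker,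
    IsLocalization.map_eq_zero_iff P.primeCompl]
  exact ⟨⟨b, hb⟩, by rw [mul_comm]; exact hab⟩

end General

section Node

variable (k : Type u) [Field k]

/-- The node. -/
abbrev A := MvPolynomial (Fin 2) k ⧸ Ideal.span {(MvPolynomial.X 0 * MvPolynomial.X 1 : MvPolynomial (Fin 2) k)}

/-- The coordinates. -/
noncomputable abbrev v (i : Fin 2) : A k :=
  Ideal.Quotient.mk (Ideal.span {(MvPolynomial.X 0 * MvPolynomial.X 1 : MvPolynomial (Fin 2) k)}) (MvPolynomial.X i)

theorem v_mul : v k 0 * v k 1 = 0 :=
  Ideal.Quotient.eq_zero_iff_mem.2 (Ideal.mem_span_singleton_self _)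

/-- Projection of the node onto an axis. -/
noncomputable def proj (i : Fin 2) : A k →ₐ[k] Polynomial k :=
  Ideal.Quotient.liftₐ _ (MvPolynomial.aeval fun j => if j = i then 0 else Polynomial.X) (by
    intro a ha
    obtain ⟨c, rfl⟩ := Ideal.mem_span_singleton'.1 ha
    fin_cases i <;> simp)

@[simp]
theorem proj_v (i j : Fin 2) : proj k i (v k j) = if j = i then 0 else Polynomial.X := by
  change (MvPolynomial.aeval fun l => if l = i then 0 else Polynomial.X) (MvPolynomial.X j) = _
  rw [MvPolynomial.aeval_X]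

instance : IsNoetherianRing (A k) :=
  isNoetherianRing_of_surjective (MvPolynomial (Fin 2) k) _
    (Ideal.Quotient.mk (Ideal.span {(MvPolynomial.X 0 * MvPolynomial.X 1 : MvPolynomial (Fin 2) k)}))
    Ideal.Quotient.mk_surjective

/-- The axis as a quotient. -/
noncomputable def axis (i j : Fin 2) : Polynomial k →ₐ[k] A k ⧸ Ideal.span {v k i} :=
  Polynomial.aeval (Ideal.Quotient.mk (Ideal.span {v k i}) (v k j))

/-- The quotient by a coordinate is a polynomial ring. -/
noncomputable def axisEquiv (i j : Fin 2) (hij : j ≠ i) : Polynomial k ≃+* A k ⧸ Ideal.span {v k i} := by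
  refine RingEquiv.ofBijective (axis k i j) ⟨?_, ?_⟩
  · let g : A k ⧸ Ideal.span {v k i} →ₐ[k] Polynomial k :=
      Ideal.Quotient.liftₐ _ (proj k i) (fun a ha => by
        obtain ⟨c, rfl⟩ := Ideal.mem_span_singleton'.1 ha
        rw [map_mul, proj_v, if_pos rfl, mul_zero])
    have : g.comp (axis k i j) = AlgHom.id k _ := Polynomial.algHom_ext (by
      simp only [AlgHom.comp_apply, axis, Polynomial.aeval_X, AlgHom.id_apply]
      exact (proj_v k i j).trans (if_neg hij))
    exact Function.LeftInverse.injective (g := g) fun x => AlgHom.congr_fun this x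
  · intro x
    obtain ⟨a, rfl⟩ := Ideal.Quotient.mk_surjective x
    obtain ⟨p, rfl⟩ := Ideal.Quotient.mk_surjective a
    have : ((Ideal.Quotient.mkₐ k (Ideal.span {v k i})).comp (Ideal.Quotient.mkₐ k _)) =
        (axis k i j).comp (MvPolynomial.aeval fun l => if l = i then 0 else Polynomial.X) := by
      refine MvPolynomial.algHom_ext fun l => ?_
      simp only [AlgHom.comp_apply, MvPolynomial.aeval_X, Ideal.Quotient.mkₐ_eq_mk]
      by_cases hl : l = i
      · subst hl
        rw [if_pos rfl, map_zero]
        exact Ideal.Quotient.eq_zero_iff_mem.2 (Ideal.mem_span_singleton_self _)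
      · rw [if_neg hl, axis, Polynomial.aeval_X]
        have : l = j := by omega
        rw [this]
    exact ⟨_, (AlgHom.congr_fun this p).symm⟩

theorem other (i : Fin 2) : ∃ j, j ≠ i := ⟨1 - i, by fin_cases i <;> decide⟩

instance isDomain_axis (i : Fin 2) : IsDomain (A k ⧸ Ideal.span {v k i}) :=
  (axisEquiv k i _ (other i).choose_spec).symm.toMulEquiv.isDomain _

instance isPID_axis (i : Fin 2) : IsPrincipalIdealRing (A k ⧸ Ideal.span {v k i}) :=
  IsPrincipalIdealRing.of_surjective (axisEquiv k i _ (other i).choose_spec : Polynomial k →+* _)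
    (axisEquiv k i _ (other i).choose_spec).surjective

instance isPrime_axis (i : Fin 2) : (Ideal.span {v k i}).IsPrime :=
  (Ideal.Quotient.isDomain_iff_prime _).1 (isDomain_axis k i)

theorem v_notMem (i j : Fin 2) (hij : j ≠ i) : v k j ∉ Ideal.span {v k i} := by
  intro h
  obtain ⟨c, hc⟩ := Ideal.mem_span_singleton'.1 h
  have := congrArg (proj k i) hc
  rw [map_mul, proj_v, if_pos rfl, mul_zero, proj_v, if_neg hij] at this
  exact Polynomial.X_ne_zero this.symm

theorem isField_loc (i : Fin 2) : IsField (Localization (Ideal.span {v k i}).primeCompl) := by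
  obtain ⟨j, hj⟩ := other i
  refine isField_localization _ (v k i) (v k j) rfl (v_notMem k i j hj) ?_
  obtain rfl : j = 1 - i := by omega
  fin_cases i
  · exact v_mul k
  · rw [mul_comm]; exact v_mul k

theorem cls_mem (M : Type u) [AddCommGroup M] [Module (A k) M] [Module.Finite (A k) M] :
    ∃ a b : ℤ, a • cls (A k) (A k ⧸ Ideal.span {v k 0}) + b • cls (A k) (A k ⧸ Ideal.span {v k 1}) =
      cls (A k) M := by
  let f : M →ₗ[A k] M := LinearMap.lsmul (A k) M (v k 0)
  let N := LinearMap.range f
  have h := cls_ses (A k) N.subtype N.mkQ (Submodule.injective_subtype _)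
    (LinearMap.exact_subtype_mkQ N) (Submodule.mkQ_surjective N)
  have h1 : Module.IsTorsionBySet (A k) N (Ideal.span {v k 1}) := by
    rintro ⟨_, m, rfl⟩ ⟨a, ha⟩
    obtain ⟨c, rfl⟩ := Ideal.mem_span_singleton'.1 ha
    refine Subtype.ext ?_
    change (c * v k 1) • v k 0 • m = 0
    rw [smul_smul, mul_assoc, mul_comm (v k 1), v_mul, mul_zero]
    exact zero_smul (A k) m
  have h0 : Module.IsTorsionBySet (A k) (M ⧸ N) (Ideal.span {v k 0}) := by
    rintro x ⟨a, ha⟩
    obtain ⟨c, rfl⟩ := Ideal.mem_span_singleton'.1 ha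
    obtain ⟨m, rfl⟩ := Submodule.Quotient.mk_surjective N x
    change (c * v k 0) • Submodule.Quotient.mk m = 0
    rw [← Submodule.Quotient.mk_smul, Submodule.Quotient.mk_eq_zero]
    exact ⟨c • m, by simp [f, smul_smul, mul_comm c]⟩
  obtain ⟨a, ha⟩ := AddSubgroup.mem_zmultiples_iff.1 (cls_mem_of_torsion _ (M ⧸ N) h0)
  obtain ⟨b, hb⟩ := AddSubgroup.mem_zmultiples_iff.1 (cls_mem_of_torsion _ N h1)
  exact ⟨a, b, by rw [ha, hb, h, add_comm]⟩

theorem bijective :
    Function.Bijective fun p : ℤ × ℤ =>
      p.1 • cls (A k) (A k ⧸ Ideal.span {v k 0}) + p.2 • cls (A k) (A k ⧸ Ideal.span {v k 1}) := by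
  refine ⟨fun p q h => ?_, fun x => ?_⟩
  · dsimp only at h
    have key : ∀ i j : Fin 2, j ≠ i → lenHom (Ideal.span {v k i}) (isField_loc k i)
        (cls (A k) (A k ⧸ Ideal.span {v k j})) = 0 := fun i j hij => by
      rw [lenHom_cls _ _ _ inferInstance]
      exact len_eq_zero _ (Ideal.mem_span_singleton_self _) (v_notMem k i j hij)
    have e0 := congrArg (lenHom (Ideal.span {v k 0}) (isField_loc k 0)) h
    have e1 := congrArg (lenHom (Ideal.span {v k 1}) (isField_loc k 1)) h
    simp only [map_add, map_zsmul, key 0 1 (by decide), smul_eq_mul, mul_zero, add_zero] at e0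
    simp only [map_add, map_zsmul, key 1 0 (by decide), smul_eq_mul, mul_zero, zero_add] at e1
    rw [lenHom_cls _ _ _ inferInstance] at e0 e1
    exact Prod.ext (mul_right_cancel₀ (len_self_ne_zero _ (isField_loc k 0)) e0)
      (mul_right_cancel₀ (len_self_ne_zero _ (isField_loc k 1)) e1)
  · obtain ⟨z, rfl⟩ := QuotientAddGroup.mk_surjective x
    induction z using FreeAbelianGroup.induction_on with
    | zero => exact ⟨0, by simp⟩
    | of X =>
      haveI : Module.Finite (A k) X.1 := X.2
      obtain ⟨a, b, hab⟩ := cls_mem k X.1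
      exact ⟨(a, b), hab.trans (KDer46.clSub_eq (P := Fin' (A k)) X.2)⟩
    | neg z hz =>
      obtain ⟨p, hp⟩ := hz
      exact ⟨-p, by
        simp only [Prod.fst_neg, Prod.snd_neg, neg_smul, QuotientAddGroup.mk_neg] at hp ⊢
        rw [← hp, neg_add]⟩
    | add y z hy hz =>
      obtain ⟨p, hp⟩ := hy
      obtain ⟨q, hq⟩ := hz
      exact ⟨p + q, by
        simp only [Prod.fst_add, Prod.snd_add, add_smul, QuotientAddGroup.mk_add] at hp hq ⊢
        rw [← hp, ← hq]; abel⟩

end Node

end Groth.Agent.K0Node31
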